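import Mathlib
import Cfsg.Prelude.Def_Transfer
import Cfsg.Prelude.Def_KGroupFacts
import Cfsg.Agent.Helper63.Frattini

/-!
# Extraspecial 2-groups: the inner automorphism group has no complement (width at least 3)

Elementary proof.  Let `Q` be a 2-group with `Z = {1, z}` its centre, all squares and commutators in `Z`.
For `u` with `u * u = z` the map `tau u : y ↦ y` (if `y` commutes with `u`), `y ↦ y * u` (otherwise) is an
automorphism.  If `L` is a complement to the inner automorphisms, the element `rho u` of `L` in the coset of
`tau u` inverts `u` and fixes every `u'` with `u' * u' = z` commuting with `u` and different from `u`, `u * z`.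
As soon as `|Q| ≥ 2 ^ 7` one can write `u = a * b * c` with such `a, b, c`: contradiction.
-/

set_option autoImplicit false

namespace Cfsg.Agent.Helper30.Griess

/-- The abstract setting: `z` is a central involution and all squares and commutators lie in `{1, z}`,
the centre is `{1, z}`. -/
structure ES (Q : Type*) [Group Q] (z : Q) : Prop where
  z_ne : z ≠ 1
  z_sq : z * z = 1
  z_comm : ∀ y : Q, y * z = z * y
  comm : ∀ x y : Q, x * y = y * x ∨ x * y = y * x * z
  sq : ∀ x : Q, x * x = 1 ∨ x * x = z
  cent : ∀ x : Q, (∀ y, x * y = y * x) → x = 1 ∨ x = z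

section
variable {Q : Type*} [Group Q] {z : Q}

theorem ES.z_inv (h : ES Q z) : z⁻¹ = z := by
  rw [inv_eq_iff_mul_eq_one]; exact h.z_sq

theorem ES.mul_z_ne (h : ES Q z) (x : Q) : x * z ≠ x := by
  intro hx
  exact h.z_ne (by simpa using hx)

/-- If `x` and `y` do not commute then `x * y = y * x * z`. -/
theorem ES.of_not_comm (h : ES Q z) {x y : Q} (hxy : x * y ≠ y * x) : x * y = y * x * z :=
  (h.comm x y).resolve_left hxy

/-- `x * z` commutes with `u` iff `x` does. -/
theorem ES.mul_z_comm_iff (h : ES Q z) (x u : Q) : x * z * u = u * (x * z) ↔ x * u = u * x := by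
  rw [mul_assoc x z u, ← h.z_comm u, ← mul_assoc x u z, ← mul_assoc u x z, mul_left_inj]

/-- The inverse of an element of order 4. -/
theorem ES.inv_eq_mul_z (h : ES Q z) {u : Q} (hu : u * u = z) : u⁻¹ = u * z := by
  rw [inv_eq_iff_mul_eq_one, ← mul_assoc, hu, h.z_sq]

/-- Product of two elements not commuting with `u` commutes with `u`. -/
theorem ES.mul_comm_of_not_not (h : ES Q z) {x y u : Q} (hx : x * u ≠ u * x) (hy : y * u ≠ u * y) :
    x * y * u = u * (x * y) := by
  have h1 := h.of_not_comm hx
  have h2 := h.of_not_comm hy
  calc x * y * u = x * (y * u) := mul_assoc _ _ _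
    _ = x * (u * y * z) := by rw [h2]
    _ = (x * u) * y * z := by simp only [mul_assoc]
    _ = (u * x * z) * y * z := by rw [h1]
    _ = u * x * (z * y) * z := by simp only [mul_assoc]
    _ = u * x * (y * z) * z := by rw [h.z_comm y]
    _ = u * (x * y) * (z * z) := by simp only [mul_assoc]
    _ = u * (x * y) := by rw [h.z_sq, mul_one]

theorem ES.mul_not_comm_of_comm_not {x y u : Q} (hx : x * u = u * x) (hy : y * u ≠ u * y) :
    x * y * u ≠ u * (x * y) := by
  intro hxy
  apply hy
  have : x * (y * u) = x * (u * y) := by
    rw [← mul_assoc, hxy, ← mul_assoc, ← hx, mul_assoc]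
  exact mul_left_cancel this

theorem ES.mul_not_comm_of_not_comm {x y u : Q} (hx : x * u ≠ u * x) (hy : y * u = u * y) :
    x * y * u ≠ u * (x * y) := by
  intro hxy
  apply hx
  have : (x * u) * y = (u * x) * y := by
    rw [mul_assoc x u y, ← hy, ← mul_assoc, hxy, mul_assoc]
  exact mul_right_cancel this

theorem ES.mul_comm_of_comm_comm {x y u : Q} (hx : x * u = u * x) (hy : y * u = u * y) :
    x * y * u = u * (x * y) := by
  rw [mul_assoc, hy, ← mul_assoc, hx, mul_assoc]


open Classical in
/-- The underlying function of `tau u`. -/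
noncomputable def tauFun (u : Q) (y : Q) : Q := if y * u = u * y then y else y * u

theorem tauFun_of_comm {u y : Q} (hy : y * u = u * y) : tauFun u y = y := by
  unfold tauFun; rw [if_pos hy]

theorem tauFun_of_not_comm {u y : Q} (hy : y * u ≠ u * y) : tauFun u y = y * u := by
  unfold tauFun; rw [if_neg hy]

open Classical in
/-- The underlying function of the inverse of `tau u`. -/
noncomputable def tauInvFun (u : Q) (y : Q) : Q := if y * u = u * y then y else y * u⁻¹

theorem tauFun_mul (h : ES Q z) {u : Q} (hu : u * u = z) (x y : Q) :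
    tauFun u (x * y) = tauFun u x * tauFun u y := by
  by_cases hx : x * u = u * x
  · by_cases hy : y * u = u * y
    · rw [tauFun_of_comm hx, tauFun_of_comm hy, tauFun_of_comm (ES.mul_comm_of_comm_comm hx hy)]
    · rw [tauFun_of_comm hx, tauFun_of_not_comm hy,
        tauFun_of_not_comm (ES.mul_not_comm_of_comm_not hx hy), mul_assoc]
  · by_cases hy : y * u = u * y
    · rw [tauFun_of_not_comm hx, tauFun_of_comm hy,
        tauFun_of_not_comm (ES.mul_not_comm_of_not_comm hx hy), mul_assoc, mul_assoc, hy]
    · rw [tauFun_of_not_comm hx, tauFun_of_not_comm hy,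
        tauFun_of_comm (h.mul_comm_of_not_not hx hy)]
      have h2 := h.of_not_comm hy
      calc x * y = x * y * (z * z) := by rw [h.z_sq, mul_one]
        _ = x * (y * z) * z := by simp only [mul_assoc]
        _ = x * (z * y) * z := by rw [h.z_comm y]
        _ = x * (u * u * y) * z := by rw [hu]
        _ = x * u * (u * y * z) := by simp only [mul_assoc]
        _ = x * u * (y * u) := by
          rw [← h2]

/-- The automorphism `tau u` for `u` of order 4. -/
noncomputable def tau (h : ES Q z) (u : Q) (hu : u * u = z) : MulAut Q where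
  toFun := tauFun u
  invFun := tauInvFun u
  left_inv := by
    intro y
    by_cases hy : y * u = u * y
    · rw [tauFun_of_comm hy]
      unfold tauInvFun; rw [if_pos hy]
    · rw [tauFun_of_not_comm hy]
      have hyu : y * u * u ≠ u * (y * u) := by
        intro h1
        apply hy
        have : (y * u) * u = (u * y) * u := by rw [h1, mul_assoc]
        exact mul_right_cancel this
      unfold tauInvFun; rw [if_neg hyu, mul_assoc, mul_inv_cancel, mul_one]
  right_inv := by
    intro y
    by_cases hy : y * u = u * y
    · unfold tauInvFun; rw [if_pos hy, tauFun_of_comm hy]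
    · have hyu : y * u⁻¹ * u ≠ u * (y * u⁻¹) := by
        intro h1
        apply hy
        have h2 : y = u * y * u⁻¹ := by
          rw [mul_assoc, ← h1, inv_mul_cancel_right]
        calc y * u = u * y * u⁻¹ * u := by rw [← h2]
          _ = u * y := by rw [inv_mul_cancel_right]
      unfold tauInvFun; rw [if_neg hy, tauFun_of_not_comm hyu, inv_mul_cancel_right]
  map_mul' := tauFun_mul h hu

theorem tau_apply (h : ES Q z) {u : Q} (hu : u * u = z) (y : Q) : tau h u hu y = tauFun u y := rfl

theorem tau_of_comm (h : ES Q z) {u : Q} (hu : u * u = z) {y : Q} (hy : y * u = u * y) :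
    tau h u hu y = y := tauFun_of_comm hy

theorem tau_of_not_comm (h : ES Q z) {u : Q} (hu : u * u = z) {y : Q} (hy : y * u ≠ u * y) :
    tau h u hu y = y * u := tauFun_of_not_comm hy

end

end Cfsg.Agent.Helper30.Griess
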