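import Cfsg.Agent.Helper30.Griess.Main

set_option autoImplicit false

namespace Cfsg.Agent.Helper30.Griess

variable {Q : Type*} [Group Q]

open scoped commutatorElement

/-- An extraspecial 2-group gives the abstract setting. -/
theorem exists_ES [Finite Q] (hQ : Cfsg.IsExtraspecial 2 Q) : ∃ z : Q, ES Q z := by
  obtain ⟨⟨hp, hfr, hcm⟩, hcard⟩ := hQ
  have : Fact (Nat.Prime 2) := ⟨Nat.prime_two⟩
  -- the centre has exactly two elements
  have h2 : Nat.card (Subgroup.center Q) = 2 := hcard
  obtain ⟨z0, hz0⟩ : ∃ z0 : Subgroup.center Q, z0 ≠ 1 := by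
    by_contra hc
    push Not at hc
    have : Subsingleton (Subgroup.center Q) := ⟨fun a b => by rw [hc a, hc b]⟩
    have h3 : Nat.card (Subgroup.center Q) = 1 := Nat.card_unique
    omega
  have hall : ∀ x : Subgroup.center Q, x = 1 ∨ x = z0 := by
    intro x
    by_contra hc
    push Not at hc
    classical
    have hfin : Finite (Subgroup.center Q) := inferInstance
    have : Fintype (Subgroup.center Q) := Fintype.ofFinite _
    have h3 : ({1, z0, x} : Finset (Subgroup.center Q)).card = 3 := by
      rw [Finset.card_insert_of_notMem, Finset.card_insert_of_notMem, Finset.card_singleton]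
      · simp only [Finset.mem_singleton]; exact fun h => hc.2 h.symm
      · simp only [Finset.mem_insert, Finset.mem_singleton, not_or]
        exact ⟨fun h => hz0 h.symm, fun h => hc.1 h.symm⟩
    have h4 := Finset.card_le_univ ({1, z0, x} : Finset (Subgroup.center Q))
    rw [h3, ← Nat.card_eq_fintype_card, h2] at h4
    omega
  refine ⟨(z0 : Q), ?_⟩
  have hzc : ∀ y : Q, y * (z0 : Q) = (z0 : Q) * y := fun y => Subgroup.mem_center_iff.mp z0.2 y
  have hmem : ∀ x : Q, x ∈ Subgroup.center Q → x = 1 ∨ x = (z0 : Q) := by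
    intro x hx
    rcases hall ⟨x, hx⟩ with h3 | h3
    · left; exact congrArg Subtype.val h3
    · right; exact congrArg Subtype.val h3
  have hzne : (z0 : Q) ≠ 1 := fun h => hz0 (Subtype.ext h)
  have hzsq : (z0 : Q) * (z0 : Q) = 1 := by
    rcases hmem _ ((Subgroup.center Q).mul_mem z0.2 z0.2) with h3 | h3
    · exact h3
    · exfalso
      exact hzne (mul_left_cancel (a := (z0 : Q)) (by rw [h3, mul_one]))
  refine ⟨hzne, hzsq, hzc, ?_, ?_, ?_⟩
  · intro x y
    have h3 : ⁅x, y⁆ ∈ Subgroup.center Q := by
      rw [← hcm]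
      exact Subgroup.commutator_mem_commutator (Subgroup.mem_top x) (Subgroup.mem_top y)
    rcases hmem _ h3 with h4 | h4
    · left
      exact (commutatorElement_eq_one_iff_mul_comm.mp h4)
    · right
      rw [commutatorElement_def] at h4
      -- x * y * x⁻¹ * y⁻¹ = z0
      have : x * y = (z0 : Q) * (y * x) := by
        rw [← h4]; group
      rw [this, ← hzc (y * x)]
  · intro x
    have h3 : x ^ 2 ∈ frattini Q := Cfsg.Agent.Helper63.pow_prime_mem_frattini hp x
    rw [hfr, sq] at h3
    exact hmem _ h3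
  · intro x hx
    exact hmem x (Subgroup.mem_center_iff.mpr (fun y => (hx y).symm))

/-- Griess' theorem (width at least 3): no complement to the inner automorphisms. -/
theorem no_complement_of_extraspecial [Finite Q] (n : ℕ) (hn : 3 ≤ n)
    (hQ : Cfsg.IsExtraspecial 2 Q) (hcard : Nat.card Q = 2 ^ (2 * n + 1))
    (L : Subgroup (MulAut Q)) : ¬ (Cfsg.Inn Q).IsComplement' L := by
  obtain ⟨z, hz⟩ := exists_ES hQ
  apply hz.no_complement _ L
  rw [hcard]
  calc 128 = 2 ^ 7 := by norm_num
    _ ≤ 2 ^ (2 * n + 1) := Nat.pow_le_pow_right (by norm_num) (by omega)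

end Cfsg.Agent.Helper30.Griess
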