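import Cfsg.Agent.Helper30.Griess.Lift

set_option autoImplicit false

namespace Cfsg.Agent.Helper30.Griess

variable {Q : Type*} [Group Q] {z : Q}

theorem index_le_two_of_mul_mem [Finite Q] (H : Subgroup Q)
    (hH : ∀ x y : Q, x ∉ H → y ∉ H → x * y ∈ H) : H.index ≤ 2 := by
  by_cases htop : H = ⊤
  · rw [htop, Subgroup.index_top]; norm_num
  · obtain ⟨a, ha⟩ : ∃ a : Q, a ∉ H := by
      by_contra hc
      push Not at hc
      exact htop (Subgroup.eq_top_iff' H |>.mpr hc)
    have : H.index = 2 := by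
      rw [Subgroup.index_eq_two_iff]
      refine ⟨a, fun b => ?_⟩
      by_cases hb : b ∈ H
      · refine Or.inr ⟨hb, fun hba => ha ?_⟩
        have := H.mul_mem (H.inv_mem hb) hba
        rwa [inv_mul_cancel_left] at this
      · exact Or.inl ⟨hH b a hb ha, hb⟩
    rw [this]

theorem mem_cent_iff (u y : Q) : y ∈ Subgroup.centralizer ({u} : Set Q) ↔ y * u = u * y := by
  rw [Subgroup.mem_centralizer_iff]
  constructor
  · intro h; exact (h u rfl).symm
  · intro h x hx; rw [Set.mem_singleton_iff] at hx; rw [hx]; exact h.symm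

theorem ES.index_cent_le (h : ES Q z) [Finite Q] (u : Q) :
    (Subgroup.centralizer ({u} : Set Q)).index ≤ 2 := by
  apply index_le_two_of_mul_mem
  intro x y hx hy
  rw [mem_cent_iff] at hx hy ⊢
  exact h.mul_comm_of_not_not hx hy

theorem exists_mem_not_mem_finset [Finite Q] (H : Subgroup Q) (S : Finset Q)
    (hS : S.card < Nat.card H) : ∃ y ∈ H, y ∉ S := by
  by_contra hc
  push Not at hc
  have hsub : (H : Set Q) ⊆ (S : Set Q) := fun y hy => hc y hy
  have h1 : (H : Set Q).ncard ≤ (S : Set Q).ncard := Set.ncard_le_ncard hsub S.finite_toSet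
  rw [Set.ncard_coe_finset] at h1
  have h2 : (H : Set Q).ncard = Nat.card H := (Nat.card_coe_set_eq (H : Set Q)).symm
  omega

/-- From `y` commuting with `u`, produce an element of order 4 in `{y, y * u}`. -/
theorem ES.exists_order_four (h : ES Q z) {u : Q} (hu : u * u = z) {y : Q} (hy : y * u = u * y) :
    y * y = z ∨ (y * u) * (y * u) = z := by
  rcases h.sq y with h1 | h1
  · right
    calc y * u * (y * u) = y * (u * y) * u := by simp only [mul_assoc]
      _ = y * (y * u) * u := by rw [hy]
      _ = (y * y) * (u * u) := by simp only [mul_assoc]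
      _ = z := by rw [h1, hu, one_mul]
  · left; exact h1

/-- The key existence statement. -/
theorem ES.exists_ab (h : ES Q z) [Finite Q] (hcard : 128 ≤ Nat.card Q) {u : Q} (hu : u * u = z) :
    ∃ a b : Q, a * a = z ∧ b * b = z ∧ a * u = u * a ∧ b * u = u * b ∧ a * b = b * a ∧
      a ≠ u ∧ a ≠ u * z ∧ b ≠ u ∧ b ≠ u * z ∧ b ≠ a ∧ b ≠ a * z := by
  classical
  -- the element `a`
  have hC1 : 64 ≤ Nat.card (Subgroup.centralizer ({u} : Set Q)) := by
    have h1 := Subgroup.card_mul_index (Subgroup.centralizer ({u} : Set Q))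
    have h2 := h.index_cent_le u
    nlinarith
  obtain ⟨y, hyC, hyS⟩ := exists_mem_not_mem_finset (Subgroup.centralizer ({u} : Set Q))
    ({1, z, u, u * z} : Finset Q) (by
      refine lt_of_le_of_lt (Finset.card_le_four) ?_
      omega)
  rw [mem_cent_iff] at hyC
  simp only [Finset.mem_insert, Finset.mem_singleton, not_or] at hyS
  obtain ⟨hy1, hyz, hyu, hyuz⟩ := hyS
  obtain ⟨a, haa, hau, ha1, ha2⟩ : ∃ a : Q, a * a = z ∧ a * u = u * a ∧ a ≠ u ∧ a ≠ u * z := by
    rcases h.exists_order_four hu hyC with h1 | h1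
    · exact ⟨y, h1, hyC, hyu, hyuz⟩
    · refine ⟨y * u, h1, ?_, ?_, ?_⟩
      · rw [← mul_assoc u y u, ← hyC]
      · intro h2; apply hy1; exact mul_right_cancel (by rw [h2, one_mul])
      · intro h2; apply hyz
        have : y * u = z * u := by rw [h2, h.z_comm]
        exact mul_right_cancel this
  -- the element `b`
  have hC2 : 32 ≤ Nat.card ↥(Subgroup.centralizer ({u} : Set Q) ⊓ Subgroup.centralizer ({a} : Set Q)) := by
    have h1 := Subgroup.card_mul_index
      (Subgroup.centralizer ({u} : Set Q) ⊓ Subgroup.centralizer ({a} : Set Q))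
    have h2 := h.index_cent_le u
    have h3 := h.index_cent_le a
    have h4 : (Subgroup.centralizer ({u} : Set Q) ⊓ Subgroup.centralizer ({a} : Set Q)).index ≤
        (Subgroup.centralizer ({u} : Set Q)).index * (Subgroup.centralizer ({a} : Set Q)).index :=
      Subgroup.index_inf_le
    have h5 : (Subgroup.centralizer ({u} : Set Q) ⊓ Subgroup.centralizer ({a} : Set Q)).index ≤ 4 := by
      nlinarith
    nlinarith
  obtain ⟨y', hyW, hyS'⟩ := exists_mem_not_mem_finset
    (Subgroup.centralizer ({u} : Set Q) ⊓ Subgroup.centralizer ({a} : Set Q))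
    ({1, z, u, u * z, a, a * z, a * u, a * u * z} : Finset Q) (by
      have : ({1, z, u, u * z, a, a * z, a * u, a * u * z} : Finset Q).card ≤ 8 :=
        (Finset.card_insert_le _ _).trans (Nat.succ_le_succ ((Finset.card_insert_le _ _).trans
          (Nat.succ_le_succ Finset.card_le_six)))
      omega)
  rw [Subgroup.mem_inf, mem_cent_iff, mem_cent_iff] at hyW
  obtain ⟨hyWu, hyWa⟩ := hyW
  simp only [Finset.mem_insert, Finset.mem_singleton, not_or] at hyS'
  obtain ⟨hb1, hbz, hbu, hbuz, hba, hbaz, hbau, hbauz⟩ := hyS'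
  rcases h.exists_order_four hu hyWu with h1 | h1
  · exact ⟨a, y', haa, h1, hau, hyWu, hyWa.symm, ha1, ha2, hbu, hbuz, hba, hbaz⟩
  · refine ⟨a, y' * u, haa, h1, hau, ?_, ?_, ha1, ha2, ?_, ?_, ?_, ?_⟩
    · rw [← mul_assoc u y' u, ← hyWu]
    · rw [← mul_assoc, ← hyWa, mul_assoc, hau, ← mul_assoc]
    · intro h2; apply hb1; exact mul_right_cancel (by rw [h2, one_mul])
    · intro h2; apply hbz
      have : y' * u = z * u := by rw [h2, h.z_comm]
      exact mul_right_cancel this
    · -- y' * u = a  →  y' = a * u⁻¹ = a * u * z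
      intro h2; apply hbauz
      have : y' = a * u⁻¹ := by rw [← h2, mul_inv_cancel_right]
      rw [this, h.inv_eq_mul_z hu, mul_assoc]
    · -- y' * u = a * z → y' = a * z * u⁻¹ = a * u
      intro h2; apply hbau
      have : y' = a * z * u⁻¹ := by rw [← h2, mul_inv_cancel_right]
      rw [this, h.inv_eq_mul_z hu, mul_assoc a z, ← mul_assoc z u z, ← h.z_comm u, mul_assoc u z z,
        h.z_sq, mul_one]

end Cfsg.Agent.Helper30.Griess
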