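import Cfsg.Agent.Helper30.Griess.Lift

set_option autoImplicit false

namespace Cfsg.Agent.Helper30.Griess

variable {Q : Type*} [Group Q] {z : Q}

/-- Separation: if `u, u'` have order 4, commute, and `u' ∉ {u, u z}`, some `y` commutes with `u`
but not with `u'`. -/
theorem ES.exists_sep (h : ES Q z) {u u' : Q} (hu : u * u = z) (hu' : u' * u' = z)
    (_huu' : u' * u = u * u') (hne : u' ≠ u) (hne' : u' ≠ u * z) :
    ∃ y : Q, y * u = u * y ∧ y * u' ≠ u' * y := by
  by_contra hc
  push Not at hc
  -- then `u * u'` would be central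
  have hcen : ∀ y : Q, (u * u') * y = y * (u * u') := by
    intro y
    by_cases hy : y * u = u * y
    · have hy' := hc y hy
      exact (ES.mul_comm_of_comm_comm (x := u) (y := u') (u := y) hy.symm hy'.symm)
    · by_cases hy' : y * u' = u' * y
      · -- `y` commutes with `u'` but not `u`: use symmetry? derive contradiction differently
        -- here we only know hc for elements commuting with u; handle directly:
        -- pick y0 not commuting with u'; then y0 does not commute with u (by hc), and y * y0
        -- commutes with u, not with u'.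
        exfalso
        obtain ⟨y0, hy0⟩ := h.exists_not_comm hu'
        have hy0u : y0 * u ≠ u * y0 := fun h1 => hy0 (hc y0 h1)
        have h1 : y * y0 * u = u * (y * y0) := h.mul_comm_of_not_not hy hy0u
        have h2 : y * y0 * u' ≠ u' * (y * y0) := ES.mul_not_comm_of_comm_not hy' hy0
        exact h2 (hc _ h1)
      · exact (h.mul_comm_of_not_not (x := u) (y := u') (u := y)
          (fun h1 => hy h1.symm) (fun h1 => hy' h1.symm))
  rcases h.cent (u * u') hcen with h1 | h1
  · -- u' = u⁻¹ = u * z
    apply hne'
    rw [← h.inv_eq_mul_z hu]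
    exact (inv_eq_of_mul_eq_one_right h1).symm
  · -- u * u' = z = u * u so u' = u
    apply hne
    rw [← hu] at h1
    exact mul_left_cancel h1

/-- Fact 1: if `rho = conj w * tau u` is an involution then `w` does not commute with `u`. -/
theorem fact_one (h : ES Q z) {u : Q} (hu : u * u = z) (w : Q)
    (hρ : (MulAut.conj w * tau h u hu) * (MulAut.conj w * tau h u hu) = 1) : w * u ≠ u * w := by
  intro hc
  obtain ⟨y, hy⟩ := h.exists_not_comm hu
  have hwu : MulAut.conj w u = u := (conj_eq_self_iff w u).mpr hc
  have e1 : (MulAut.conj w * tau h u hu) y = MulAut.conj w y * u := by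
    rw [MulAut.mul_apply, tau_of_not_comm h hu hy, map_mul, hwu]
  have hy1 : MulAut.conj w y * u ≠ u * MulAut.conj w y := fun h1 => hy ((h.conj_comm_iff w y u).mp h1)
  have hy2 : MulAut.conj w y * u * u ≠ u * (MulAut.conj w y * u) := by
    intro h1
    apply hy1
    have : (MulAut.conj w y * u) * u = (u * MulAut.conj w y) * u := by rw [h1, mul_assoc]
    exact mul_right_cancel this
  have e2 : (MulAut.conj w * tau h u hu) (MulAut.conj w y * u) = y * z := by
    rw [MulAut.mul_apply, tau_of_not_comm h hu hy2, mul_assoc, hu, map_mul, h.conj_conj, h.conj_z]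
  have e3 : ((MulAut.conj w * tau h u hu) * (MulAut.conj w * tau h u hu)) y = y * z := by
    rw [MulAut.mul_apply, e1, e2]
  rw [hρ, MulAut.one_apply] at e3
  exact h.mul_z_ne y e3.symm

/-- Fact 2: if `rho = conj w * tau u` and `rho' = conj w' * tau u'` commute, where `u, u'` commute and
`u' ∉ {u, u z}`, then `w` commutes with `u'`. -/
theorem fact_two (h : ES Q z) {u u' : Q} (hu : u * u = z) (hu' : u' * u' = z)
    (huu' : u' * u = u * u') (hne : u' ≠ u) (hne' : u' ≠ u * z) (w w' : Q)
    (hcomm : (MulAut.conj w * tau h u hu) * (MulAut.conj w' * tau h u' hu') =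
      (MulAut.conj w' * tau h u' hu') * (MulAut.conj w * tau h u hu)) : w * u' = u' * w := by
  obtain ⟨y, hy, hy'⟩ := h.exists_sep hu hu' huu' hne hne'
  have hL : ((MulAut.conj w * tau h u hu) * (MulAut.conj w' * tau h u' hu')) y =
      MulAut.conj w (MulAut.conj w' y) * MulAut.conj w (MulAut.conj w' u') := by
    simp only [MulAut.mul_apply]
    rw [tau_of_not_comm h hu' hy', map_mul]
    have h1 : MulAut.conj w' y * MulAut.conj w' u' * u = u * (MulAut.conj w' y * MulAut.conj w' u') :=
      ES.mul_comm_of_comm_comm ((h.conj_comm_iff w' y u).mpr hy) ((h.conj_comm_iff w' u' u).mpr huu')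
    rw [tau_of_comm h hu h1, map_mul]
  have hR : ((MulAut.conj w' * tau h u' hu') * (MulAut.conj w * tau h u hu)) y =
      MulAut.conj w' (MulAut.conj w y) * MulAut.conj w' u' := by
    simp only [MulAut.mul_apply]
    rw [tau_of_comm h hu hy]
    have h1 : MulAut.conj w y * u' ≠ u' * MulAut.conj w y :=
      fun h2 => hy' ((h.conj_comm_iff w y u').mp h2)
    rw [tau_of_not_comm h hu' h1, map_mul]
  rw [hcomm, hR, h.conj_comm w w' y, h.conj_comm w w' u'] at hL
  have h3 : MulAut.conj w' u' = MulAut.conj w' (MulAut.conj w u') := mul_left_cancel hL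
  have h4 : u' = MulAut.conj w u' := (MulAut.conj w').injective h3
  exact (conj_eq_self_iff w u').mp h4.symm

end Cfsg.Agent.Helper30.Griess
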