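import Cfsg.Agent.Helper30.Griess.Basic

set_option autoImplicit false

namespace Cfsg.Agent.Helper30.Griess

variable {Q : Type*} [Group Q] {z : Q}

theorem ES.conj_z (h : ES Q z) (w : Q) : MulAut.conj w z = z := by
  rw [MulAut.conj_apply, h.z_comm w, mul_inv_cancel_right]

theorem ES.conj_z_eq_one (h : ES Q z) : MulAut.conj z = 1 := by
  ext y
  rw [MulAut.conj_apply, MulAut.one_apply, ← h.z_comm y, mul_inv_cancel_right]

theorem conj_eq_self_iff (w y : Q) : MulAut.conj w y = y ↔ w * y = y * w := by
  rw [MulAut.conj_apply, mul_inv_eq_iff_eq_mul]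

/-- `conj w y` is `y` or `y * z`. -/
theorem ES.conj_apply_cases (h : ES Q z) (w y : Q) :
    MulAut.conj w y = y ∨ MulAut.conj w y = y * z := by
  rcases h.comm w y with h1 | h1
  · left; exact (conj_eq_self_iff w y).mpr h1
  · right
    rw [MulAut.conj_apply, mul_inv_eq_iff_eq_mul, h1, mul_assoc y w z, h.z_comm w, ← mul_assoc]

theorem ES.conj_of_not_comm (h : ES Q z) {w y : Q} (hwy : w * y ≠ y * w) :
    MulAut.conj w y = y * z := by
  rcases h.conj_apply_cases w y with h1 | h1
  · exact absurd ((conj_eq_self_iff w y).mp h1) hwy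
  · exact h1

/-- Inner automorphisms are involutions. -/
theorem ES.conj_conj (h : ES Q z) (w y : Q) : MulAut.conj w (MulAut.conj w y) = y := by
  rw [← MulAut.mul_apply, ← map_mul]
  rcases h.sq w with h1 | h1
  · rw [h1, map_one, MulAut.one_apply]
  · rw [h1, h.conj_z_eq_one, MulAut.one_apply]

/-- Inner automorphisms commute. -/
theorem ES.conj_comm (h : ES Q z) (w w' y : Q) :
    MulAut.conj w (MulAut.conj w' y) = MulAut.conj w' (MulAut.conj w y) := by
  rw [← MulAut.mul_apply, ← MulAut.mul_apply, ← map_mul, ← map_mul]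
  rcases h.comm w w' with h1 | h1
  · rw [h1]
  · rw [h1, map_mul, h.conj_z_eq_one, mul_one]

/-- `conj w y` commutes with `u` iff `y` does. -/
theorem ES.conj_comm_iff (h : ES Q z) (w y u : Q) :
    MulAut.conj w y * u = u * MulAut.conj w y ↔ y * u = u * y := by
  rcases h.conj_apply_cases w y with h1 | h1
  · rw [h1]
  · rw [h1]; exact h.mul_z_comm_iff y u

/-- An element of order 4 is not central: some `y` does not commute with it. -/
theorem ES.exists_not_comm (h : ES Q z) {u : Q} (hu : u * u = z) : ∃ y : Q, y * u ≠ u * y := by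
  by_contra hc
  push Not at hc
  rcases h.cent u (fun y => (hc y).symm) with h1 | h1
  · rw [h1, one_mul] at hu; exact h.z_ne hu.symm
  · rw [h1, h.z_sq] at hu; exact h.z_ne hu.symm

/-- `tau u * tau u = conj u`. -/
theorem tau_mul_self (h : ES Q z) {u : Q} (hu : u * u = z) :
    tau h u hu * tau h u hu = MulAut.conj u := by
  ext y
  rw [MulAut.mul_apply]
  by_cases hy : y * u = u * y
  · rw [tau_of_comm h hu hy, tau_of_comm h hu hy]
    exact ((conj_eq_self_iff u y).mpr hy.symm).symm
  · rw [tau_of_not_comm h hu hy]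
    have hyu : y * u * u ≠ u * (y * u) := by
      intro h1
      apply hy
      have : (y * u) * u = (u * y) * u := by rw [h1, mul_assoc]
      exact mul_right_cancel this
    rw [tau_of_not_comm h hu hyu, mul_assoc, hu]
    exact (h.conj_of_not_comm (fun h2 => hy h2.symm)).symm

/-- `tau u` and `tau u'` commute when `u` and `u'` do. -/
theorem tau_comm (h : ES Q z) {u u' : Q} (hu : u * u = z) (hu' : u' * u' = z)
    (huu' : u' * u = u * u') : tau h u hu * tau h u' hu' = tau h u' hu' * tau h u hu := by
  ext y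
  rw [MulAut.mul_apply, MulAut.mul_apply]
  by_cases hy : y * u = u * y
  · by_cases hy' : y * u' = u' * y
    · rw [tau_of_comm h hu' hy', tau_of_comm h hu hy, tau_of_comm h hu' hy']
    · rw [tau_of_not_comm h hu' hy', tau_of_comm h hu hy, tau_of_not_comm h hu' hy',
        tau_of_comm h hu (ES.mul_comm_of_comm_comm hy huu')]
  · by_cases hy' : y * u' = u' * y
    · rw [tau_of_comm h hu' hy', tau_of_not_comm h hu hy,
        tau_of_comm h hu' (ES.mul_comm_of_comm_comm hy' huu'.symm)]
    · rw [tau_of_not_comm h hu' hy', tau_of_not_comm h hu hy,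
        tau_of_not_comm h hu (ES.mul_not_comm_of_not_comm hy huu'),
        tau_of_not_comm h hu' (ES.mul_not_comm_of_not_comm hy' huu'.symm),
        mul_assoc, mul_assoc, huu']

end Cfsg.Agent.Helper30.Griess
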