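import Cfsg.Agent.Helper30.Griess.Facts
import Cfsg.Agent.Helper30.Griess.Exists

set_option autoImplicit false

namespace Cfsg.Agent.Helper30.Griess

variable {Q : Type*} [Group Q] {z : Q}

/-- Some element has square `z`. -/
theorem ES.exists_sq_eq (h : ES Q z) [Finite Q] (hcard : 128 ≤ Nat.card Q) : ∃ u : Q, u * u = z := by
  by_contra hc
  push Not at hc
  have hsq : ∀ x : Q, x * x = 1 := fun x => (h.sq x).resolve_right (hc x)
  have hcomm : ∀ x y : Q, x * y = y * x := by
    intro x y
    have h1 := hsq (x * y)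
    have h2 : x * y = (x * y)⁻¹ := eq_inv_of_mul_eq_one_left h1
    rw [h2, mul_inv_rev, inv_eq_of_mul_eq_one_left (hsq x), inv_eq_of_mul_eq_one_left (hsq y)]
  classical
  have hsub : ∀ x : Q, x ∈ ({1, z} : Finset Q) := by
    intro x
    rcases h.cent x (hcomm x) with h1 | h1
    · rw [h1]; simp
    · rw [h1]; simp
  have : Nat.card Q ≤ 2 := by
    have h1 : Nat.card Q = Nat.card (⊤ : Subgroup Q) := (Subgroup.card_top).symm
    by_contra h2
    push Not at h2
    obtain ⟨y, -, hy⟩ := exists_mem_not_mem_finset (⊤ : Subgroup Q) ({1, z} : Finset Q)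
      (lt_of_le_of_lt Finset.card_le_two (by rw [← h1]; exact h2))
    exact hy (hsub y)
  omega

/-- The lift in `L` of `tau v`. -/
theorem exists_lift (h : ES Q z) (L : Subgroup (MulAut Q)) (hL : (Cfsg.Inn Q).IsComplement' L)
    {v : Q} (hv : v * v = z) : ∃ w : Q, MulAut.conj w * tau h v hv ∈ L := by
  obtain ⟨x, hx, -⟩ := (Subgroup.isComplement'_def.mp hL).existsUnique (tau h v hv)
  obtain ⟨w0, hw0⟩ := x.1.2
  refine ⟨w0⁻¹, ?_⟩
  have h1 : MulAut.conj w0⁻¹ * tau h v hv = (x.2 : MulAut Q) := by
    rw [← hx, ← hw0, ← mul_assoc, ← map_mul, inv_mul_cancel, map_one, one_mul]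
  rw [h1]
  exact x.2.2

theorem mem_inn_conj (w : Q) : MulAut.conj w ∈ Cfsg.Inn Q := ⟨w, rfl⟩

/-- An element of `L` congruent to `1` modulo inner automorphisms is `1`. -/
theorem eq_one_of_mem (L : Subgroup (MulAut Q)) (hL : (Cfsg.Inn Q).IsComplement' L)
    {x : MulAut Q} (hx1 : x ∈ Cfsg.Inn Q) (hx2 : x ∈ L) : x = 1 :=
  Subgroup.disjoint_def.mp hL.disjoint hx1 hx2

/-- The main theorem in the abstract setting. -/
theorem ES.no_complement (h : ES Q z) [Finite Q] (hcard : 128 ≤ Nat.card Q)
    (L : Subgroup (MulAut Q)) : ¬ (Cfsg.Inn Q).IsComplement' L := by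
  intro hL
  obtain ⟨u, hu⟩ := h.exists_sq_eq hcard
  obtain ⟨a, b, haa, hbb, hau, hbu, hab, ha1, ha2, hb1, hb2, hb3, hb4⟩ := h.exists_ab hcard hu
  have hInn : (Cfsg.Inn Q).Normal := inferInstance
  -- squares of lifts are trivial
  have hsq : ∀ {v : Q} (hv : v * v = z) (w : Q), MulAut.conj w * tau h v hv ∈ L →
      (MulAut.conj w * tau h v hv) * (MulAut.conj w * tau h v hv) = 1 := by
    intro v hv w hw
    apply eq_one_of_mem L hL _ (L.mul_mem hw hw)
    have e : (MulAut.conj w * tau h v hv) * (MulAut.conj w * tau h v hv) =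
        MulAut.conj w * (tau h v hv * MulAut.conj w * (tau h v hv)⁻¹) * (tau h v hv * tau h v hv) := by
      group
    rw [e, tau_mul_self]
    exact (Cfsg.Inn Q).mul_mem ((Cfsg.Inn Q).mul_mem (mem_inn_conj w)
      (hInn.conj_mem _ (mem_inn_conj w) _)) (mem_inn_conj v)
  -- lifts of commuting reflections commute
  have hcm : ∀ {v v' : Q} (hv : v * v = z) (hv' : v' * v' = z) (hvv' : v' * v = v * v') (w w' : Q),
      MulAut.conj w * tau h v hv ∈ L → MulAut.conj w' * tau h v' hv' ∈ L →
      (MulAut.conj w * tau h v hv) * (MulAut.conj w' * tau h v' hv') =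
        (MulAut.conj w' * tau h v' hv') * (MulAut.conj w * tau h v hv) := by
    intro v v' hv hv' hvv' w w' hw hw'
    have hmem : (MulAut.conj w * tau h v hv) * (MulAut.conj w' * tau h v' hv') *
        ((MulAut.conj w' * tau h v' hv') * (MulAut.conj w * tau h v hv))⁻¹ = 1 := by
      apply eq_one_of_mem L hL _ (L.mul_mem (L.mul_mem hw hw') (L.inv_mem (L.mul_mem hw' hw)))
      have e : (MulAut.conj w * tau h v hv) * (MulAut.conj w' * tau h v' hv') *
          ((MulAut.conj w' * tau h v' hv') * (MulAut.conj w * tau h v hv))⁻¹ =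
          MulAut.conj w * (tau h v hv * MulAut.conj w' * (tau h v hv)⁻¹) *
          ((tau h v hv * tau h v' hv') * (tau h v' hv' * tau h v hv)⁻¹) *
          (tau h v' hv' * (MulAut.conj w)⁻¹ * (tau h v' hv')⁻¹) * (MulAut.conj w')⁻¹ := by
        group
      rw [e, tau_comm h hv hv' hvv', mul_inv_cancel, mul_one]
      exact (Cfsg.Inn Q).mul_mem ((Cfsg.Inn Q).mul_mem ((Cfsg.Inn Q).mul_mem (mem_inn_conj w)
        (hInn.conj_mem _ (mem_inn_conj w') _))
        (hInn.conj_mem _ ((Cfsg.Inn Q).inv_mem (mem_inn_conj w)) _))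
        ((Cfsg.Inn Q).inv_mem (mem_inn_conj w'))
    exact mul_inv_eq_one.mp hmem
  -- the element c
  have hbu' : u * b = b * u := hbu.symm
  have hau' : u * a = a * u := hau.symm
  have hcc : (a * b * u) * (a * b * u) = z := by
    calc a * b * u * (a * b * u) = a * b * (u * a) * b * u := by simp only [mul_assoc]
      _ = a * b * (a * u) * b * u := by rw [hau']
      _ = a * (b * a) * (u * b) * u := by simp only [mul_assoc]
      _ = a * (a * b) * (b * u) * u := by rw [← hab, hbu']
      _ = (a * a) * (b * b) * (u * u) := by simp only [mul_assoc]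
      _ = z := by rw [haa, hbb, hu, h.z_sq, one_mul]
  have hcu : (a * b * u) * u = u * (a * b * u) := by
    calc a * b * u * u = a * (b * u) * u := by simp only [mul_assoc]
      _ = a * (u * b) * u := by rw [hbu']
      _ = (a * u) * b * u := by simp only [mul_assoc]
      _ = (u * a) * b * u := by rw [hau']
      _ = u * (a * b * u) := by simp only [mul_assoc]
  have hc1 : a * b * u ≠ u := by
    intro h1
    have h2 : a * b = 1 := mul_right_cancel (by rw [h1, one_mul])
    apply hb4
    rw [← h.inv_eq_mul_z haa]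
    exact (inv_eq_of_mul_eq_one_right h2).symm
  have hc2 : a * b * u ≠ u * z := by
    intro h1
    have h2 : a * b = z := by
      have : a * b * u = z * u := by rw [h1, h.z_comm]
      exact mul_right_cancel this
    apply hb3
    rw [← haa] at h2
    exact mul_left_cancel h2
  have habc : a * b * (a * b * u) = u := by
    calc a * b * (a * b * u) = a * (b * a) * b * u := by simp only [mul_assoc]
      _ = a * (a * b) * b * u := by rw [hab]
      _ = (a * a) * (b * b) * u := by simp only [mul_assoc]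
      _ = u := by rw [haa, hbb, h.z_sq, one_mul]
  -- the lifts
  obtain ⟨wu, hwu⟩ := exists_lift h L hL hu
  obtain ⟨wa, hwa⟩ := exists_lift h L hL haa
  obtain ⟨wb, hwb⟩ := exists_lift h L hL hbb
  obtain ⟨wc, hwc⟩ := exists_lift h L hL hcc
  have f1 : wu * u ≠ u * wu := fact_one h hu wu (hsq hu wu hwu)
  have f2a : wu * a = a * wu :=
    fact_two h hu haa hau ha1 ha2 wu wa (hcm hu haa hau wu wa hwu hwa)
  have f2b : wu * b = b * wu :=
    fact_two h hu hbb hbu hb1 hb2 wu wb (hcm hu hbb hbu wu wb hwu hwb)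
  have f2c : wu * (a * b * u) = (a * b * u) * wu :=
    fact_two h hu hcc hcu hc1 hc2 wu wc (hcm hu hcc hcu wu wc hwu hwc)
  -- contradiction: wu commutes with a * b * c = u
  apply f1
  calc wu * u = wu * (a * b * (a * b * u)) := by rw [habc]
    _ = (wu * a) * b * (a * b * u) := by simp only [mul_assoc]
    _ = (a * wu) * b * (a * b * u) := by rw [f2a]
    _ = a * (wu * b) * (a * b * u) := by simp only [mul_assoc]
    _ = a * (b * wu) * (a * b * u) := by rw [f2b]
    _ = a * b * (wu * (a * b * u)) := by simp only [mul_assoc]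
    _ = a * b * ((a * b * u) * wu) := by rw [f2c]
    _ = (a * b * (a * b * u)) * wu := by simp only [mul_assoc]
    _ = u * wu := by rw [habc]

end Cfsg.Agent.Helper30.Griess
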